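import Mathlib

/-!
Lifting over artinian rings: trivial residue extensions suffice for finite ones;
lifting passes through etale morphisms.
-/

universe u

open CategoryTheory AlgebraicGeometry IsLocalRing

namespace Groth.Agent.UnramArtinLift

section Ring

variable {A C κ : Type u} [CommRing A] [CommRing C] [Field κ]

/-- The preimage of the image of `A` in the residue field. -/
abbrev sub (q : C →+* κ) (φ : A →+* κ) : Subring C := φ.range.comap q

variable (q : C →+* κ) (φ : A →+* κ)

lemma isUnit_sub [IsLocalHom φ] [IsLocalHom q] (x : sub q φ) (hx : q x ≠ 0) : IsUnit x := by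
  obtain ⟨r, hr⟩ := x.2
  have hru : IsUnit r := IsLocalHom.map_nonunit (f := φ) r (by rw [hr]; exact hx.isUnit)
  have hxu : IsUnit (x : C) := IsLocalHom.map_nonunit (f := q) _ hx.isUnit
  obtain ⟨y, hy⟩ := hxu.exists_right_inv
  obtain ⟨s, hs⟩ := hru.exists_right_inv
  have hy' : y ∈ sub q φ := by
    refine ⟨s, mul_left_cancel₀ hx ?_⟩
    rw [← map_mul, hy, map_one, ← hr, ← map_mul, hs, map_one]
  exact IsUnit.of_mul_eq_one ⟨y, hy'⟩ (Subtype.ext hy)

lemma isLocalRing_sub [IsLocalHom φ] [IsLocalHom q] : IsLocalRing (sub q φ) := by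
  haveI : Nontrivial (sub q φ) := (q.comp (sub q φ).subtype).domain_nontrivial
  apply IsLocalRing.of_nonunits_add
  intro a b ha hb hab
  have h0 : ∀ z : sub q φ, z ∈ nonunits (sub q φ) → q z = 0 := fun z hz => by
    by_contra h
    exact hz (isUnit_sub q φ z h)
  have := (hab.map (sub q φ).subtype).map q
  simp [h0 a ha, h0 b hb] at this

lemma isLocalHom_subtype [IsLocalHom φ] [IsLocalHom q] : IsLocalHom (sub q φ).subtype :=
  ⟨fun x hx => isUnit_sub q φ x (hx.map q).ne_zero⟩

lemma isArtinianRing_sub [IsArtinianRing C] [IsLocalRing C] [IsLocalHom φ] [IsLocalHom q]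
    (hq : Function.Surjective q) (hφ : φ.Finite) : IsArtinianRing (sub q φ) := by
  classical
  let P : Ideal (sub q φ) := RingHom.ker (q.comp (sub q φ).subtype)
  have hnil : ∀ z : sub q φ, z ∈ P → IsNilpotent z := by
    intro z hz
    have : (z : C) ∈ maximalIdeal C := fun hu => (hu.map q).ne_zero hz
    obtain ⟨n, hn⟩ := IsArtinianRing.isNilpotent_jacobson_bot (R := C)
    refine ⟨n, Subtype.ext ?_⟩
    have h := Ideal.pow_mem_pow ((IsLocalRing.jacobson_eq_maximalIdeal (⊥ : Ideal C) bot_ne_top).ge this) n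
    rw [hn] at h
    simpa using h
  have hprime : ∀ Q : Ideal (sub q φ), Q.IsPrime → Q = P := by
    intro Q hQ
    refine le_antisymm (fun z hz => ?_) (fun z hz => ?_)
    · by_contra h
      exact hQ.ne_top (Q.eq_top_of_isUnit_mem hz (isUnit_sub q φ z h))
    · obtain ⟨n, hn⟩ := hnil z hz
      exact hQ.mem_of_pow_mem n (hn ▸ Q.zero_mem)
  -- generators
  algebraize [φ]
  obtain ⟨e, he⟩ := (Module.finite_def.1 (inferInstance : Module.Finite A κ))
  choose E hE using hq
  obtain ⟨F, hF⟩ := (IsNoetherian.noetherian (maximalIdeal C))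
  have hmem : ∀ x ∈ maximalIdeal C, x ∈ sub q φ := fun x hx => by
    refine ⟨0, ?_⟩
    rw [map_zero]
    by_contra h
    exact hx (IsLocalHom.map_nonunit (f := q) x (Ne.symm h).isUnit)
  have hFm : ∀ f ∈ F, f ∈ maximalIdeal C := fun f hf => hF ▸ Submodule.subset_span hf
  let S : Ideal (sub q φ) := Ideal.span {z | (z : C) ∈ F ∨ ∃ a ∈ e, ∃ f ∈ F, (z : C) = E a * f}
  have hS : P = S := by
    refine le_antisymm ?_ (Ideal.span_le.2 fun z hz => ?_)
    · have key : ∀ x ∈ Submodule.span C (F : Set C), ∀ c : C, ∃ s ∈ S, (s : C) = c * x := by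
        intro x hx
        induction hx using Submodule.span_induction with
        | mem f hf =>
          intro c
          have : ∀ w ∈ Submodule.span A (e : Set κ), ∀ c : C, q c = w →
              ∃ s ∈ S, (s : C) = c * f := by
            intro w hw
            induction hw using Submodule.span_induction with
            | mem a ha =>
              intro c hc
              have hc' : c - E a ∈ sub q φ := ⟨0, by simp [hc, hE]⟩
              refine ⟨⟨E a * f, hmem _ (Ideal.mul_mem_left _ _ (hFm f hf))⟩ +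
                ⟨c - E a, hc'⟩ * ⟨f, hmem _ (hFm f hf)⟩, S.add_mem ?_ (S.mul_mem_left _ ?_), ?_⟩
              · exact Ideal.subset_span (Or.inr ⟨a, ha, f, hf, rfl⟩)
              · exact Ideal.subset_span (Or.inl hf)
              · push_cast; ring
            | zero =>
              intro c hc
              have hc' : c ∈ sub q φ := ⟨0, by simp [hc]⟩
              exact ⟨⟨c, hc'⟩ * ⟨f, hmem _ (hFm f hf)⟩,
                S.mul_mem_left _ (Ideal.subset_span (Or.inl hf)), by push_cast; rfl⟩
            | add a b _ _ iha ihb =>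
              intro c hc
              obtain ⟨s, hs, hs'⟩ := iha (E a) (hE a)
              obtain ⟨t, ht, ht'⟩ := ihb (c - E a) (by simp [hc, hE])
              exact ⟨s + t, S.add_mem hs ht, by push_cast; rw [hs', ht']; ring⟩
            | smul r a _ iha =>
              intro c hc
              have hd : E (φ r) ∈ sub q φ := ⟨r, (hE _).symm⟩
              have hn : c - E (φ r) * E a ∈ sub q φ := ⟨0, by
                simp [hc, hE, Algebra.smul_def, RingHom.algebraMap_toAlgebra]⟩
              obtain ⟨s, hs, hs'⟩ := iha (E a) (hE a)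
              refine ⟨⟨_, hd⟩ * s + ⟨_, hn⟩ * ⟨f, hmem _ (hFm f hf)⟩,
                S.add_mem (S.mul_mem_left _ hs) (S.mul_mem_left _ (Ideal.subset_span (Or.inl hf))), ?_⟩
              push_cast; rw [hs']; ring
          exact this (q c) (he ▸ Submodule.mem_top) c rfl
        | zero => intro c; exact ⟨0, S.zero_mem, by simp⟩
        | add a b _ _ iha ihb =>
          intro c
          obtain ⟨s, hs, hs'⟩ := iha c
          obtain ⟨t, ht, ht'⟩ := ihb c
          exact ⟨s + t, S.add_mem hs ht, by push_cast; rw [hs', ht']; ring⟩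
        | smul r a _ iha =>
          intro c
          obtain ⟨s, hs, hs'⟩ := iha (c * r)
          exact ⟨s, hs, by rw [hs', smul_eq_mul]; ring⟩
      intro z hz
      have hz' : (z : C) ∈ Submodule.span C (F : Set C) := by
        rw [hF]; exact fun hu => (hu.map q).ne_zero hz
      obtain ⟨s, hs, hs'⟩ := key _ hz' 1
      rw [one_mul] at hs'
      rwa [← Subtype.ext hs']
    · change q (z : C) = 0
      rcases hz with hz | ⟨a, -, f, hf, hz⟩
      · by_contra h
        exact hFm _ hz (IsLocalHom.map_nonunit (f := q) _ (Ne.isUnit h))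
      · by_contra h
        rw [hz] at h
        exact (Ideal.mul_mem_left _ (E a) (hFm f hf)) (IsLocalHom.map_nonunit (f := q) _ (Ne.isUnit h))
  have hfg : P.FG := by
    rw [hS]
    apply Submodule.fg_span
    let F' : Finset C := F ∪ (e ×ˢ F).image fun p => E p.1 * p.2
    refine (F'.finite_toSet.preimage (Subtype.val_injective.injOn)).subset fun z hz => ?_
    simp only [Set.mem_preimage, SetLike.mem_coe, F', Finset.mem_union, Finset.mem_image,
      Finset.mem_product]
    rcases hz with hz | ⟨a, ha, f, hf, hz⟩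
    · exact Or.inl hz
    · exact Or.inr ⟨(a, f), ⟨ha, hf⟩, hz.symm⟩
  have : IsNoetherianRing (sub q φ) := IsNoetherianRing.of_prime fun Q hQ => hprime Q hQ ▸ hfg
  have : Ring.KrullDimLE 0 (sub q φ) := Ring.KrullDimLE.mk₀ fun Q hQ => by
    obtain ⟨m, hm, hQm⟩ := Ideal.exists_le_maximal Q hQ.ne_top
    rwa [hprime Q hQ, ← hprime m hm.isPrime]
  exact IsNoetherianRing.isArtinianRing_of_krullDimLE_zero

end Ring

section Scheme

lemma hom_ext_iff {X : Scheme.{u}} {R : CommRingCat.{u}} [IsLocalRing R] {x y : X}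
    (φ : X.presheaf.stalk x ⟶ R) [IsLocalHom φ.hom] (ψ : X.presheaf.stalk y ⟶ R) [IsLocalHom ψ.hom]
    (h : Spec.map φ ≫ X.fromSpecStalk x = Spec.map ψ ≫ X.fromSpecStalk y) :
    ∃ e : x = y, φ = (X.presheaf.stalkCongr (.of_eq e)).hom ≫ ψ := by
  have := (SpecToEquivOfLocalRing X R).symm.injective
    (a₁ := ⟨x, φ, inferInstance⟩) (a₂ := ⟨y, ψ, inferInstance⟩) h
  exact SpecToEquivOfLocalRing_eq_iff.1 this

lemma residueFieldMap_finite_iff {T : Scheme.{u}} {C : Type u} [CommRing C] [IsLocalRing C]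
    (a : Spec (CommRingCat.of C) ⟶ T) :
    (((residue C).comp (Scheme.stalkClosedPointTo a).hom).Finite ↔
      (a.residueFieldMap (closedPoint C)).hom.Finite) ∧
    (Function.Surjective ((residue C).comp (Scheme.stalkClosedPointTo a).hom) ↔
      Function.Surjective (a.residueFieldMap (closedPoint C)).hom) := by
  let R := CommRingCat.of C
  let x : Spec R := closedPoint C
  let j := (stalkClosedPointIso R).commRingCatIsoToRingEquiv
  let e : ResidueField ((Spec R).presheaf.stalk x) ≃+* ResidueField C := ResidueField.mapEquiv j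
  have h : (residue C).comp (Scheme.stalkClosedPointTo a).hom =
      (e.toRingHom.comp (a.residueFieldMap x).hom).comp (T.residue (a x)).hom := by
    ext r
    have h1 := congr($(Scheme.residue_residueFieldMap a x).hom r)
    simp only [CommRingCat.hom_comp, RingHom.comp_apply] at h1 ⊢
    exact (Eq.trans (by rfl) (congr_arg e h1.symm))
  have hs : Function.Surjective (T.residue (a x)).hom := Ideal.Quotient.mk_surjective
  rw [h]
  refine ⟨⟨fun hf => ?_, fun hf => ?_⟩, ⟨fun hf => ?_, fun hf => ?_⟩⟩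
  · have h2 := RingHom.Finite.of_comp_finite hf
    have h3 := (RingHom.Finite.of_surjective e.symm.toRingHom e.symm.surjective).comp h2
    rwa [← RingHom.comp_assoc, show e.symm.toRingHom.comp e.toRingHom = RingHom.id _ from
      RingHom.ext e.symm_apply_apply, RingHom.id_comp] at h3
  · exact ((RingHom.Finite.of_surjective e.toRingHom e.surjective).comp hf).comp
      (RingHom.Finite.of_surjective _ hs)
  · intro y
    obtain ⟨r, hr⟩ := hf (e y)
    exact ⟨_, e.injective hr⟩
  · exact (e.surjective.comp hf).comp hs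

variable {S T : Scheme.{u}}

/-- Lifting with trivial residue extension at `t` gives lifting with finite residue extension. -/
theorem lifting_of_finite (g : T ⟶ S) (t : T)
    (hT : ∀ (C C' : Type u) [CommRing C] [CommRing C'] [IsLocalRing C] [IsLocalRing C'] [IsArtinianRing C]
        [IsArtinianRing C'] (π : C' →+* C), Function.Surjective π →
        ∀ (a : Spec (CommRingCat.of C) ⟶ T) (b : Spec (CommRingCat.of C') ⟶ S),
          a (closedPoint C) = t →
          Function.Surjective (a.residueFieldMap (closedPoint C)).hom →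
          Spec.map (CommRingCat.ofHom π) ≫ b = a ≫ g →
          ∃ c : Spec (CommRingCat.of C') ⟶ T, Spec.map (CommRingCat.ofHom π) ≫ c = a ∧ c ≫ g = b)
    {C C' : Type u} [CommRing C] [CommRing C'] [IsLocalRing C] [IsLocalRing C'] [IsArtinianRing C]
    [IsArtinianRing C'] (π : C' →+* C) (hπ : Function.Surjective π)
    (a : Spec (CommRingCat.of C) ⟶ T) (b : Spec (CommRingCat.of C') ⟶ S)
    (hat : a (closedPoint C) = t) (hfin : (a.residueFieldMap (closedPoint C)).hom.Finite)
    (hab : Spec.map (CommRingCat.ofHom π) ≫ b = a ≫ g) :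
    ∃ c : Spec (CommRingCat.of C') ⟶ T, Spec.map (CommRingCat.ofHom π) ≫ c = a ∧ c ≫ g = b := by
  subst hat
  let ψa := (Scheme.stalkClosedPointTo a).hom
  let ψb := (Scheme.stalkClosedPointTo b).hom
  haveI : IsLocalHom π := hπ.isLocalHom π
  let q : C →+* ResidueField C := residue C
  let q' : C' →+* ResidueField C := q.comp π
  have hq : Function.Surjective q := Ideal.Quotient.mk_surjective
  let φ := q.comp ψa
  haveI : IsLocalHom ψa := inferInstanceAs (IsLocalHom (Scheme.stalkClosedPointTo a).hom)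
  haveI : IsLocalHom q := hq.isLocalHom q
  haveI : IsLocalHom q' := RingHom.isLocalHom_comp _ _
  haveI : IsLocalHom φ := RingHom.isLocalHom_comp _ _
  have hφ : φ.Finite := (residueFieldMap_finite_iff a).1.2 hfin
  let C0 := sub q φ
  let C0' := sub q' φ
  haveI : IsLocalRing C0 := isLocalRing_sub q φ
  haveI : IsLocalRing C0' := isLocalRing_sub q' φ
  haveI : IsArtinianRing C0 := isArtinianRing_sub q φ hq hφ
  haveI : IsArtinianRing C0' := isArtinianRing_sub q' φ (hq.comp hπ) hφ
  haveI : IsLocalHom C0.subtype := isLocalHom_subtype q φ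
  haveI : IsLocalHom C0'.subtype := isLocalHom_subtype q' φ
  -- ψa lands in C0
  let ψ0 := ψa.codRestrict C0 fun r => ⟨r, rfl⟩
  haveI : IsLocalHom (CommRingCat.ofHom ψ0).hom :=
    ⟨fun r hr => IsLocalHom.map_nonunit (f := ψa) r (hr.map C0.subtype)⟩
  have haψ : Spec.map (Scheme.stalkClosedPointTo a) ≫ T.fromSpecStalk _ = a :=
    Scheme.Spec_stalkClosedPointTo_fromSpecStalk a
  have hbψ : Spec.map (Scheme.stalkClosedPointTo b) ≫ S.fromSpecStalk _ = b :=
    Scheme.Spec_stalkClosedPointTo_fromSpecStalk b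
  -- compatibility at the level of stalks
  haveI : IsLocalHom (Scheme.stalkClosedPointTo b ≫ CommRingCat.ofHom π).hom :=
    RingHom.isLocalHom_comp π (Scheme.stalkClosedPointTo b).hom
  haveI : IsLocalHom (g.stalkMap _ ≫ Scheme.stalkClosedPointTo a).hom :=
    RingHom.isLocalHom_comp ψa (g.stalkMap _).hom
  obtain ⟨hs, hb⟩ := hom_ext_iff (X := S) (R := CommRingCat.of C)
    (Scheme.stalkClosedPointTo b ≫ CommRingCat.ofHom π) (g.stalkMap _ ≫ Scheme.stalkClosedPointTo a)
    (by rw [Spec.map_comp, Spec.map_comp, Category.assoc, Category.assoc, hbψ, hab,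
      Scheme.SpecMap_stalkMap_fromSpecStalk, ← Category.assoc, haψ])
  have hbr : ∀ r, ψb r ∈ C0' := fun r =>
    ⟨(g.stalkMap _).hom ((S.presheaf.stalkCongr (.of_eq hs)).hom.hom r),
      (congr_arg q congr($(hb).hom r)).symm⟩
  let ψb0 := ψb.codRestrict C0' hbr
  haveI : IsLocalHom (CommRingCat.ofHom ψb0).hom :=
    ⟨fun r hr => IsLocalHom.map_nonunit (f := ψb) r (hr.map C0'.subtype)⟩
  let π0 : C0' →+* C0 := (π.comp C0'.subtype).codRestrict C0 fun x => x.2
  have hπ0 : Function.Surjective π0 := by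
    intro y
    obtain ⟨x, hx⟩ := hπ y.1
    exact ⟨⟨x, show q (π x) ∈ φ.range by rw [hx]; exact y.2⟩, Subtype.ext hx⟩
  let a0 : Spec (CommRingCat.of C0) ⟶ T := Spec.map (CommRingCat.ofHom ψ0) ≫ T.fromSpecStalk _
  let b0 : Spec (CommRingCat.of C0') ⟶ S := Spec.map (CommRingCat.ofHom ψb0) ≫ S.fromSpecStalk _
  have ha0 : Spec.map (CommRingCat.ofHom C0.subtype) ≫ a0 = a := by
    rw [← Category.assoc, ← Spec.map_comp]
    exact haψ
  have hb0 : Spec.map (CommRingCat.ofHom C0'.subtype) ≫ b0 = b := by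
    rw [← Category.assoc, ← Spec.map_comp]
    exact hbψ
  obtain ⟨et, hea⟩ := hom_ext_iff (Scheme.stalkClosedPointTo a0) (CommRingCat.ofHom ψ0)
    (Scheme.Spec_stalkClosedPointTo_fromSpecStalk a0)
  have hsurj : Function.Surjective (a0.residueFieldMap (closedPoint C0)).hom := by
    rw [← (residueFieldMap_finite_iff a0).2]
    intro y
    obtain ⟨⟨y, r, hr⟩, rfl⟩ := Ideal.Quotient.mk_surjective y
    obtain ⟨r', hr'⟩ := (T.presheaf.stalkCongr (Inseparable.of_eq et)).commRingCatIsoToRingEquiv.surjective r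
    refine ⟨r', ?_⟩
    rw [hea]
    change residue C0 (ψ0 _) = residue C0 _
    rw [← sub_eq_zero, ← map_sub, residue_eq_zero_iff]
    intro hu
    have := ((hu.map C0.subtype).map q).ne_zero
    apply this
    simp only [map_sub]
    rw [sub_eq_zero]
    change φ _ = q y
    rw [← hr]
    exact congr_arg φ hr'
  have hab0 : Spec.map (CommRingCat.ofHom π0) ≫ b0 = a0 ≫ g := by
    rw [Category.assoc, ← Scheme.SpecMap_stalkMap_fromSpecStalk, ← Category.assoc, ← Category.assoc,
      ← Spec.map_comp, ← Spec.map_comp]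
    have e : CommRingCat.ofHom ψb0 ≫ CommRingCat.ofHom π0 =
        (S.presheaf.stalkCongr (.of_eq hs)).hom ≫ g.stalkMap _ ≫ CommRingCat.ofHom ψ0 := by
      ext r
      exact congr($(hb).hom r)
    rw [e, Spec.map_comp, Category.assoc]
    congr 1
    simp
  obtain ⟨c0, hc1, hc2⟩ := hT C0 C0' π0 hπ0 a0 b0 et hsurj hab0
  refine ⟨Spec.map (CommRingCat.ofHom C0'.subtype) ≫ c0, ?_, by rw [Category.assoc, hc2, hb0]⟩
  rw [← ha0, ← hc1, ← Spec.map_comp_assoc, ← Spec.map_comp_assoc]
  rfl

/-- A lift to `T` lifts further along an etale morphism. -/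
theorem exists_lift_etale {U T : Scheme.{u}} (e : U ⟶ T) [Etale e]
    {C C' : Type u} [CommRing C] [CommRing C'] [IsLocalRing C] [IsLocalRing C']
    (π : C' →+* C) (hπ : Function.Surjective π) (hnil : IsNilpotent (RingHom.ker π))
    (a : Spec (CommRingCat.of C) ⟶ U) (c : Spec (CommRingCat.of C') ⟶ T)
    (h : Spec.map (CommRingCat.ofHom π) ≫ c = a ≫ e) :
    ∃ c' : Spec (CommRingCat.of C') ⟶ U, Spec.map (CommRingCat.ofHom π) ≫ c' = a ∧ c' ≫ e = c := by
  haveI : IsLocalHom π := hπ.isLocalHom π
  have hcp : c (closedPoint C') = e (a (closedPoint C)) := by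
    rw [← Scheme.Hom.comp_apply, ← h, Scheme.Hom.comp_apply]
    congr 1
    exact (IsLocalRing.comap_closedPoint π).symm
  obtain ⟨_, ⟨W, hW, rfl⟩, htW, -⟩ := T.isBasis_affineOpens.exists_subset_of_mem_open
    (Set.mem_univ (c (closedPoint C'))) isOpen_univ
  obtain ⟨_, ⟨V, hV, rfl⟩, huV, hVW⟩ := U.isBasis_affineOpens.exists_subset_of_mem_open
    (show a (closedPoint C) ∈ (e ⁻¹ᵁ W : U.Opens) from by
      change e (a (closedPoint C)) ∈ W; rwa [← hcp]) (e ⁻¹ᵁ W).2
  have ha : Set.range a ⊆ Set.range hV.fromSpec := by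
    rw [hV.range_fromSpec]
    rintro _ ⟨p, rfl⟩
    have := Scheme.preimage_eq_top_of_closedPoint_mem a huV
    exact (this.ge (Set.mem_univ p) : p ∈ a ⁻¹ᵁ V)
  have hc : Set.range c ⊆ Set.range hW.fromSpec := by
    rw [hW.range_fromSpec]
    rintro _ ⟨p, rfl⟩
    have := Scheme.preimage_eq_top_of_closedPoint_mem c htW
    exact (this.ge (Set.mem_univ p) : p ∈ c ⁻¹ᵁ W)
  let α := Spec.preimage (IsOpenImmersion.lift hV.fromSpec a ha)
  let γ := Spec.preimage (IsOpenImmersion.lift hW.fromSpec c hc)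
  have hα : Spec.map α ≫ hV.fromSpec = a := by simp [α]
  have hγ : Spec.map γ ≫ hW.fromSpec = c := by simp [γ]
  have hle : V ≤ e ⁻¹ᵁ W := hVW
  let ε := e.appLE W V hle
  have hε : Spec.map ε ≫ hW.fromSpec = hV.fromSpec ≫ e :=
    IsAffineOpen.SpecMap_appLE_fromSpec e hW hV hle
  have key : γ ≫ CommRingCat.ofHom π = ε ≫ α := by
    apply Spec.map_injective
    rw [← cancel_mono hW.fromSpec, Spec.map_comp, Spec.map_comp, Category.assoc, Category.assoc,
      hγ, hε, reassoc_of% hα, h]
  have het : ε.hom.Etale := HasRingHomProperty.appLE @Etale e inferInstance ⟨W, hW⟩ ⟨V, hV⟩ hle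
  algebraize [ε.hom, γ.hom, (γ ≫ CommRingCat.ofHom π).hom]
  let α' : Γ(U, V) →ₐ[Γ(T, W)] C := { α.hom with commutes' := fun r => congr($(key).hom r).symm }
  let π' : C' →ₐ[Γ(T, W)] C := { π with commutes' := fun r => rfl }
  let l := Algebra.FormallySmooth.liftOfSurjective α' π' hπ hnil
  refine ⟨Spec.map (CommRingCat.ofHom l.toRingHom) ≫ hV.fromSpec, ?_, ?_⟩
  · rw [← Category.assoc, ← Spec.map_comp, ← hα]
    congr 2
    ext r
    exact DFunLike.congr_fun
      (Algebra.FormallySmooth.comp_liftOfSurjective α' π' hπ hnil) r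
  · rw [Category.assoc, ← hε, ← Category.assoc, ← Spec.map_comp, ← hγ]
    congr 2
    ext r
    exact l.commutes r

end Scheme

end Groth.Agent.UnramArtinLift
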